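import Mathlib

/-!
Grouplike elements are linearly independent, in the form needed for quotients of group algebras.
-/

set_option autoImplicit false
universe u v w

open TensorProduct

namespace Groth.Misc15.MTFin

variable {K : Type u} [Field K] {B : Type v} [CommRing B] [Algebra K B] {Λ : Type w} [CommGroup Λ]

/-- Distinct grouplike elements are linearly independent. -/
theorem linearIndependent_grouplike [Nontrivial B] (c : Λ →* B) (hc : Function.Injective c)
    (Δ : B →ₐ[K] B ⊗[K] B) (hΔ : ∀ x, Δ (c x) = c x ⊗ₜ c x) : LinearIndependent K c := by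
  classical
  rw [linearIndependent_iff_finset_linearIndependent]
  intro s
  induction s using Finset.induction_on with
  | empty => exact linearIndependent_empty_type
  | insert h s hhs ih =>
    have ih' : LinearIndepOn K c (s : Set Λ) := ih
    suffices hnot : c h ∉ Submodule.span K (c '' (s : Set Λ)) by
      have := ih'.insert hnot
      rw [← Finset.coe_insert] at this
      exact this
    intro hmem
    obtain ⟨b, hb, hbh⟩ := (Finsupp.mem_span_image_iff_linearCombination K).1 hmem
    rw [Finsupp.linearCombination_apply] at hbh
    obtain ⟨f, hf⟩ := LinearMap.exists_extend (p := Submodule.span K (Set.range fun x : (s : Set Λ) => c x))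
      ih'.linearIndependent.repr
    have hfc : ∀ (g : Λ) (hg : g ∈ s), f (c g) = Finsupp.single ⟨g, hg⟩ 1 := fun g hg => by
      have := LinearMap.congr_fun hf ⟨c g, Submodule.subset_span ⟨⟨g, hg⟩, rfl⟩⟩
      exact this.trans (ih'.linearIndependent.repr_eq_single ⟨g, hg⟩ _ rfl)
    have hbs : ∀ g ∈ b.support, g ∈ s := fun g hg => hb hg
    let F : Λ → B →ₗ[K] K := fun g => if hg : g ∈ s then (Finsupp.lapply ⟨g, hg⟩).comp f else 0
    have hF : ∀ g g', g ∈ s → g' ∈ s → F g (c g') = if g' = g then 1 else 0 := fun g g' hg hg' => by
      simp only [F, dif_pos hg, LinearMap.comp_apply, Finsupp.lapply_apply, hfc g' hg',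
        Finsupp.single_apply, Subtype.mk.injEq]
    let T : Λ → Λ → B ⊗[K] B →ₗ[K] K := fun g g' =>
      (LinearMap.mul' K K).comp (TensorProduct.map (F g) (F g'))
    have hval : ∀ g, g ∈ s → F g (c h) = b g := fun g hg => by
      rw [← hbh, map_finsuppSum, Finsupp.sum]
      simp only [map_smul, smul_eq_mul]
      rw [Finset.sum_congr rfl fun x hx => by rw [hF g x hg (hbs x hx), mul_ite, mul_one, mul_zero],
        Finset.sum_ite_eq']
      split_ifs with hm
      · rfl
      · exact (Finsupp.notMem_support_iff.1 hm).symm
    have hprod : ∀ g g', g ∈ s → g' ∈ s → b g * b g' = if g = g' then b g else 0 := by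
      intro g g' hg hg'
      have e := congrArg (T g g') (hΔ h)
      have e2 : T g g' (Δ (c h)) = if g = g' then b g else 0 := by
        rw [← hbh, map_finsuppSum, map_finsuppSum, Finsupp.sum]
        simp only [map_smul, smul_eq_mul]
        rw [Finset.sum_congr rfl fun x hx => by
          rw [hΔ, show T g g' (c x ⊗ₜ c x) = F g (c x) * F g' (c x) from rfl,
            hF g x hg (hbs x hx), hF g' x hg' (hbs x hx)]]
        split_ifs with hgg
        · subst hgg
          rw [Finset.sum_congr rfl fun x _ => show (b x * ((if x = g then (1 : K) else 0) * if x = g then 1 else 0)) =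
            if x = g then b x else 0 by split_ifs <;> simp, Finset.sum_ite_eq']
          split_ifs with hm
          · rfl
          · exact (Finsupp.notMem_support_iff.1 hm).symm
        · refine Finset.sum_eq_zero fun x _ => ?_
          split_ifs <;> simp_all
      rw [e2, show T g g' (c h ⊗ₜ c h) = F g (c h) * F g' (c h) from rfl, hval g hg, hval g' hg'] at e
      exact e.symm
    have hne : c h ≠ 0 := fun h0 => by
      have := congrArg (c h⁻¹ * ·) h0
      simp [← map_mul] at this
    obtain ⟨g, hg⟩ : ∃ g, g ∈ b.support := by
      by_contra hno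
      refine hne ?_
      rw [← hbh, Finsupp.sum, Finset.sum_eq_zero]
      exact fun x hx => absurd ⟨x, hx⟩ hno
    have hbg : b g = 1 := by
      have := hprod g g (hbs g hg) (hbs g hg)
      rw [if_pos rfl] at this
      exact (mul_eq_left₀ (Finsupp.mem_support_iff.1 hg)).1 this
    have hsupp : b = Finsupp.single g 1 := Finsupp.ext fun x => by
      by_cases hx : x = g
      · subst hx; simp [hbg]
      · rw [Finsupp.single_eq_of_ne hx]
        by_contra hx0
        have := hprod g x (hbs g hg) (hbs x (Finsupp.mem_support_iff.2 hx0))
        rw [if_neg (Ne.symm hx), hbg, one_mul] at this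
        exact hx0 this
    rw [hsupp, Finsupp.sum_single_index (by simp), one_smul] at hbh
    exact hhs (hc hbh ▸ hbs g hg)

end Groth.Misc15.MTFin
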