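import Groth.Agent.Misc15.MTSub.Piece
import Groth.Agent.Misc15.MTFin.Grouplike

/-!
Over a field, the kernel of a family of homomorphisms from a diagonalisable group is diagonalisable.
-/

set_option autoImplicit false
set_option linter.style.haveILetI false
universe u

open CategoryTheory CategoryTheory.Limits MonoidalCategory CartesianMonoidalCategory MonObj AlgebraicGeometry
open Groth.Reductive Groth.Reductive.FreeDiag Groth.Misc15.MTSub
open scoped TensorProduct

noncomputable section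

namespace Groth.Misc15.MTFin

variable {S : Scheme.{u}} {K : Type u} [Field K] (p : Spec (CommRingCat.of K) ⟶ S) {G : Over S} [GrpObj G]
  {M : Type} [AddCommGroup M]

/-- The structure of an algebra on the functions of a test object. -/
def kOf {W : Over S} (t : W ⟶ Over.mk p) : K →+* Γ(W.left, ⊤) :=
  ((Scheme.ΓSpecIso (CommRingCat.of K)).inv ≫ (t.left : W.left ⟶ Spec (CommRingCat.of K)).appTop).hom

/-- Evaluation of the group algebra at a point. -/
def evW {W : Over S} (t : W ⟶ Over.mk p) (h : W ⟶ Red.DS S M) :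
    MonoidAlgebra K (Multiplicative M) →+* Γ(W.left, ⊤) :=
  ev (kOf p t) (dsValHom h)

/-- The universal test object. -/
def W₀ (M : Type) [AddCommGroup M] : Over S :=
  Over.mk (Spec.map (CommRingCat.ofHom (algebraMap K (MonoidAlgebra K (Multiplicative M)))) ≫ p)

/-- Its point of the base. -/
def t₀ : W₀ p M ⟶ Over.mk p := Over.homMk (Spec.map (CommRingCat.ofHom (algebraMap K _))) rfl

/-- Its tautological point. -/
def h₀ : W₀ p M ⟶ Red.DS S M :=
  dsMk (W₀ p M) ((Scheme.ΓSpecIso (CommRingCat.of (MonoidAlgebra K (Multiplicative M)))).inv.hom.toMonoidHom.comp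
    (MonoidAlgebra.of K (Multiplicative M)))

variable (φ : Red.DS S M ⊗ Over.mk p ⟶ G)

/-- The value of the family as a map to the group over the field. -/
def aOf {W : Over S} (t : W ⟶ Over.mk p) (h : W ⟶ Red.DS S M) : W.left ⟶ (Red.bc p G).left :=
  pullback.lift (lift h t ≫ φ).left t.left ((Over.w (lift h t ≫ φ)).trans (Over.w t).symm)

/-- The ideal of the kernel. -/
def kerIdeal : Ideal (MonoidAlgebra K (Multiplicative M)) :=
  Ideal.span (Set.range fun x : Γ((Red.bc p G).left, ⊤) =>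
    (Scheme.ΓSpecIso (CommRingCat.of (MonoidAlgebra K (Multiplicative M)))).hom ((aOf p φ (t₀ p) (h₀ p)).appTop x) -
    (Scheme.ΓSpecIso (CommRingCat.of (MonoidAlgebra K (Multiplicative M)))).hom ((aOf p φ (t₀ p) 1).appTop x))

theorem hom_one {X : Over S} (hφ : AutFam.IsHomFamily (Red.DS S M) G φ) (t : X ⟶ Over.mk p) :
    lift (1 : X ⟶ Red.DS S M) t ≫ φ = 1 := by
  have h := hφ X 1 1 t
  rw [show (1 : X ⟶ Red.DS S M) * 1 = 1 from _root_.mul_one (M := (X ⟶ Red.DS S M)) 1] at h
  exact left_eq_mul.1 h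

variable {φ}

theorem kOf_comp {W W' : Over S} (w : W' ⟶ W) (t : W ⟶ Over.mk p) :
    kOf p (w ≫ t) = w.left.appTop.hom.comp (kOf p t) := by
  refine RingHom.ext fun c => ?_
  simp only [kOf, Over.comp_left, Scheme.Hom.comp_appTop]
  rfl

theorem exists_toW₀ {W : Over S} (t : W ⟶ Over.mk p) (h : W ⟶ Red.DS S M) :
    ∃ w : W ⟶ W₀ p M, w ≫ t₀ p = t ∧ w ≫ h₀ p = h ∧
      ∀ y, w.left.appTop ((Scheme.ΓSpecIso (CommRingCat.of (MonoidAlgebra K (Multiplicative M)))).inv y) =
        evW p t h y := by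
  let E : CommRingCat.of (MonoidAlgebra K (Multiplicative M)) ⟶ Γ(W.left, ⊤) := CommRingCat.ofHom (evW p t h)
  let k : CommRingCat.of K ⟶ Γ(W.left, ⊤) := CommRingCat.ofHom (kOf p t)
  have hE : CommRingCat.ofHom (algebraMap K (MonoidAlgebra K (Multiplicative M))) ≫ E = k := by
    ext c
    show evW p t h (algebraMap K _ c) = kOf p t c
    rw [show algebraMap K (MonoidAlgebra K (Multiplicative M)) c = MonoidAlgebra.single 1 c from rfl, evW,
      ev_single, map_one, _root_.mul_one]
  have ht : (W.left.toSpecΓ ≫ Spec.map E) ≫ Spec.map (CommRingCat.ofHom (algebraMap K _)) = t.left := by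
    rw [Category.assoc, ← Spec.map_comp, hE]
    show W.left.toSpecΓ ≫ Spec.map ((Scheme.ΓSpecIso (CommRingCat.of K)).inv ≫ Scheme.Hom.appTop _) = _
    rw [Spec.map_comp, ← Category.assoc, ← Scheme.toSpecΓ_naturality]
    refine (Category.assoc _ _ _).trans ?_
    rw [← SpecMap_ΓSpecIso_hom, ← Spec.map_comp, Iso.inv_hom_id, Spec.map_id]
    exact Category.comp_id _
  let w : W ⟶ W₀ p M := Over.homMk (W.left.toSpecΓ ≫ Spec.map E) (by
    exact (Category.assoc _ _ _).symm.trans ((congrArg (· ≫ p) ht).trans (Over.w t)))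
  have happ : ∀ y, w.left.appTop ((Scheme.ΓSpecIso (CommRingCat.of (MonoidAlgebra K (Multiplicative M)))).inv y) =
      evW p t h y := fun y => by
    show (W.left.toSpecΓ ≫ Spec.map E).appTop _ = _
    have e := congrArg (fun f => f ≫ W.left.toSpecΓ.appTop) (Scheme.ΓSpecIso_inv_naturality E)
    simp only [Category.assoc, Scheme.toSpecΓ_appTop, Iso.inv_hom_id, Category.comp_id] at e
    have := ConcreteCategory.congr_hom e y
    simp only [Scheme.Hom.comp_appTop, Scheme.toSpecΓ_appTop, CommRingCat.comp_apply] at this ⊢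
    exact this.symm
  refine ⟨w, Over.OverMorphism.ext ht, dsVal_ext fun m => ?_, happ⟩
  rw [dsVal_comp, h₀, dsVal_dsMk]
  refine (happ _).trans ?_
  rw [evW, MonoidAlgebra.of_apply, ev_single, map_one, _root_.one_mul]
  rfl

theorem aOf_comp {W W' : Over S} (w : W' ⟶ W) (t : W ⟶ Over.mk p) (h : W ⟶ Red.DS S M) :
    aOf p φ (w ≫ t) (w ≫ h) = w.left ≫ aOf p φ t h := by
  refine pullback.hom_ext ?_ ?_
  · simp only [aOf, pullback.lift_fst, Category.assoc]
    rw [← Over.comp_left, comp_lift_assoc]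
  · simp only [aOf, pullback.lift_snd, Category.assoc]
    rfl

theorem ker_iff (hφ : AutFam.IsHomFamily (Red.DS S M) G φ) (hGa : IsAffineHom G.hom) {W : Over S}
    (t : W ⟶ Over.mk p) (h : W ⟶ Red.DS S M) :
    lift h t ≫ φ = 1 ↔ ∀ y ∈ kerIdeal p φ, evW p t h y = 0 := by
  haveI : IsAffineHom (Red.bc p G).hom := MorphismProperty.pullback_snd (P := @IsAffineHom) _ _ hGa
  haveI : IsAffine (Red.bc p G).left := isAffine_of_isAffineHom (Red.bc p G).hom
  obtain ⟨w, hwt, hwh, hw⟩ := exists_toW₀ p t h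
  have h1 : lift h t ≫ φ = 1 ↔ aOf p φ t h = aOf p φ t 1 := by
    constructor
    · intro e
      refine pullback.hom_ext ?_ ?_
      · simp only [aOf, pullback.lift_fst]
        rw [e, hom_one p φ hφ t]
      · simp only [aOf, pullback.lift_snd]
    · intro e
      rw [← hom_one p φ hφ t]
      refine Over.OverMorphism.ext ?_
      have := congrArg (· ≫ pullback.fst G.hom p) e
      simpa only [aOf, pullback.lift_fst] using this
  have e₁ : aOf p φ t h = w.left ≫ aOf p φ (t₀ p) (h₀ p) := by rw [← aOf_comp, hwt, hwh]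
  have e₂ : aOf p φ t 1 = w.left ≫ aOf p φ (t₀ p) 1 := by rw [← aOf_comp, hwt, MonObj.comp_one]
  rw [h1, e₁, e₂]
  let σ := Scheme.ΓSpecIso (CommRingCat.of (MonoidAlgebra K (Multiplicative M)))
  have hσ : ∀ z, w.left.appTop z = evW p t h (σ.hom z) := fun z => by
    rw [← hw]
    exact congrArg w.left.appTop (ConcreteCategory.congr_hom σ.hom_inv_id z).symm
  constructor
  · intro e y hy
    suffices hle : kerIdeal p φ ≤ RingHom.ker (evW p t h) from hle hy
    refine Ideal.span_le.2 ?_
    rintro _ ⟨x, rfl⟩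
    rw [SetLike.mem_coe, RingHom.mem_ker, map_sub, ← hσ, ← hσ, sub_eq_zero]
    have := ConcreteCategory.congr_hom (congrArg Scheme.Hom.appTop e) x
    simpa only [Scheme.Hom.comp_appTop, CommRingCat.comp_apply] using this
  · intro hI
    refine ext_of_isAffine ?_
    ext x
    simp only [Scheme.Hom.comp_appTop, CommRingCat.comp_apply]
    rw [hσ, hσ, ← sub_eq_zero, ← map_sub]
    exact hI _ (Ideal.subset_span ⟨x, rfl⟩)

/-- A point with values in an algebra. -/
theorem exists_pt (C : Type u) [CommRing C] [Algebra K C] (χ : Multiplicative M →* C) :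
    ∃ (W : Over S) (t : W ⟶ Over.mk p) (h : W ⟶ Red.DS S M) (σ : C →+* Γ(W.left, ⊤)),
      Function.Injective σ ∧ (∀ m, dsVal h m = σ (χ m)) ∧
      ∀ y, evW p t h y = σ (MonoidAlgebra.lift K C (Multiplicative M) χ y) := by
  let i := CommRingCat.ofHom (algebraMap K C)
  let W : Over S := Over.mk (Spec.map i ≫ p)
  let t : W ⟶ Over.mk p := Over.homMk (Spec.map i) rfl
  let σ : C →+* Γ(W.left, ⊤) := (Scheme.ΓSpecIso (CommRingCat.of C)).inv.hom
  let h : W ⟶ Red.DS S M := dsMk W (σ.toMonoidHom.comp χ)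
  have hh : ∀ m, dsVal h m = σ (χ m) := fun m => dsVal_dsMk W _ m
  refine ⟨W, t, h, σ, (ConcreteCategory.bijective_of_isIso (Scheme.ΓSpecIso (CommRingCat.of C)).inv).1, hh,
    fun y => ?_⟩
  have hk : kOf p t = σ.comp (algebraMap K C) := RingHom.ext fun c =>
    (ConcreteCategory.congr_hom (Scheme.ΓSpecIso_inv_naturality i) c).symm
  induction y using MonoidAlgebra.induction_linear with
  | zero => simp
  | add a b ha hb => simp only [map_add, ha, hb]
  | single m c =>
    rw [evW, ev_single, hk, dsValHom_apply, hh, MonoidAlgebra.lift_single, Algebra.smul_def, map_mul]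
    rfl

variable (φ)

/-- The functions on the kernel. -/
abbrev KerRing : Type u := MonoidAlgebra K (Multiplicative M) ⧸ kerIdeal p φ

/-- The grouplike elements of the functions on the kernel. -/
def cK : Multiplicative M →* KerRing p φ :=
  (Ideal.Quotient.mk (kerIdeal p φ)).toMonoidHom.comp (MonoidAlgebra.of K (Multiplicative M))

variable {φ}

theorem cK_apply (m : Multiplicative M) : cK p φ m = Ideal.Quotient.mk _ (MonoidAlgebra.single m 1) := rfl

theorem kerIdeal_ne_top (hφ : AutFam.IsHomFamily (Red.DS S M) G φ) (hGa : IsAffineHom G.hom) :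
    kerIdeal p φ ≠ ⊤ := by
  intro htop
  obtain ⟨W, t, h, σ, hσ, hh, he⟩ := exists_pt p (M := M) K 1
  have hh1 : h = 1 := dsVal_ext fun m => by rw [hh, dsVal_one, MonoidHom.one_apply, map_one]
  have := (ker_iff p hφ hGa t h).1 (by rw [hh1]; exact hom_one p φ hφ t) 1 (by rw [htop]; trivial)
  rw [he, map_one, map_one] at this
  exact one_ne_zero (hσ (show σ (1 : K) = σ 0 by rw [map_one, map_zero, this]))

theorem lift_cK {C : Type u} [CommRing C] [Algebra K C] (q : KerRing p φ →ₐ[K] C)
    (χ : Multiplicative M →* C) (hχ : ∀ m, χ m = q (cK p φ m)) (y : MonoidAlgebra K (Multiplicative M)) :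
    MonoidAlgebra.lift K C (Multiplicative M) χ y = q (Ideal.Quotient.mk _ y) := by
  induction y using MonoidAlgebra.induction_linear with
  | zero => simp
  | add a b ha hb => simp only [map_add, ha, hb]
  | single m r =>
    rw [show MonoidAlgebra.single m r = r • MonoidAlgebra.single m (1 : K) from by simp, map_smul,
      MonoidAlgebra.lift_single, one_smul, hχ, cK_apply]
    exact (map_smul q r _).symm

theorem ker_of_alg (hφ : AutFam.IsHomFamily (Red.DS S M) G φ) (hGa : IsAffineHom G.hom) {C : Type u}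
    [CommRing C] [Algebra K C] (q : KerRing p φ →ₐ[K] C) {W : Over S} (t : W ⟶ Over.mk p)
    (σ : C →+* Γ(W.left, ⊤)) (ht : ∀ r, kOf p t r = σ (algebraMap K C r)) (h : W ⟶ Red.DS S M)
    (hh : ∀ m, dsVal h m = σ (q (cK p φ m))) : lift h t ≫ φ = 1 := by
  refine (ker_iff p hφ hGa t h).2 fun y hy => ?_
  have he : evW p t h y = σ (MonoidAlgebra.lift K C (Multiplicative M) (q.toMonoidHom.comp (cK p φ)) y) := by
    clear hy
    induction y using MonoidAlgebra.induction_linear with
    | zero => simp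
    | add a b ha hb => simp only [map_add, ha, hb]
    | single m r =>
      rw [evW, ev_single, ht, dsValHom_apply, hh, MonoidAlgebra.lift_single, Algebra.smul_def, map_mul]
      rfl
  rw [he, lift_cK p q _ (fun _ => rfl), Ideal.Quotient.eq_zero_iff_mem.2 hy, map_zero, map_zero]

theorem exists_comul (hφ : AutFam.IsHomFamily (Red.DS S M) G φ) (hGa : IsAffineHom G.hom) :
    ∃ Δ : KerRing p φ →ₐ[K] KerRing p φ ⊗[K] KerRing p φ, ∀ m, Δ (cK p φ m) = cK p φ m ⊗ₜ cK p φ m := by
  let q₁ : KerRing p φ →ₐ[K] KerRing p φ ⊗[K] KerRing p φ := Algebra.TensorProduct.includeLeft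
  let q₂ : KerRing p φ →ₐ[K] KerRing p φ ⊗[K] KerRing p φ := Algebra.TensorProduct.includeRight
  let χ : Multiplicative M →* KerRing p φ ⊗[K] KerRing p φ :=
    (mulMonoidHom (α := KerRing p φ ⊗[K] KerRing p φ)).comp
      ((q₁.toMonoidHom.comp (cK p φ)).prod (q₂.toMonoidHom.comp (cK p φ)))
  obtain ⟨W, t, h, σ, hσ, hh, he⟩ := exists_pt p (KerRing p φ ⊗[K] KerRing p φ) χ
  have ht : ∀ r, kOf p t r = σ (algebraMap K _ r) := fun r => by
    have h1 := he (MonoidAlgebra.single 1 r)
    rw [Algebra.TensorProduct.algebraMap_apply]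
    simpa [evW, ev_single, Algebra.smul_def, MonoidAlgebra.lift_single] using h1
  let h₁ : W ⟶ Red.DS S M := dsMk W (σ.toMonoidHom.comp (q₁.toMonoidHom.comp (cK p φ)))
  let h₂ : W ⟶ Red.DS S M := dsMk W (σ.toMonoidHom.comp (q₂.toMonoidHom.comp (cK p φ)))
  have hg₁ : lift h₁ t ≫ φ = 1 := ker_of_alg p hφ hGa q₁ t σ ht h₁ fun m => dsVal_dsMk W _ m
  have hg₂ : lift h₂ t ≫ φ = 1 := ker_of_alg p hφ hGa q₂ t σ ht h₂ fun m => dsVal_dsMk W _ m
  have hprod : h = h₁ * h₂ := dsVal_ext fun m => by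
    rw [dsVal_mul, hh, dsVal_dsMk, dsVal_dsMk]
    exact map_mul σ _ _
  have hΔ₀ : ∀ y ∈ kerIdeal p φ, MonoidAlgebra.lift K _ (Multiplicative M) χ y = 0 := fun y hy => hσ (by
    rw [← he, map_zero]
    exact (ker_iff p hφ hGa t h).1 (by rw [hprod, hφ, hg₁, hg₂, _root_.one_mul]) y hy)
  refine ⟨Ideal.Quotient.liftₐ (kerIdeal p φ) (MonoidAlgebra.lift K _ (Multiplicative M) χ) hΔ₀, fun m => ?_⟩
  show MonoidAlgebra.lift K _ (Multiplicative M) χ (MonoidAlgebra.single m 1) = _
  rw [MonoidAlgebra.lift_single, one_smul]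
  exact (Algebra.TensorProduct.tmul_mul_tmul _ _ _ _).trans (by rw [_root_.mul_one, _root_.one_mul])

/-- Pushing forward to the group of distinct values. -/
theorem mapDomain_eq_zero {B : Type u} [CommRing B] [Algebra K B] {Γ Q : Type} [CommGroup Γ] [CommGroup Q]
    (ψ : MonoidAlgebra K Γ →ₐ[K] B) (c : Γ →* B) (cb : Q →* B) (π : Γ →* Q)
    (hψ : ∀ m, ψ (MonoidAlgebra.single m 1) = c m) (hπ : ∀ m, cb (π m) = c m) (hLI : LinearIndependent K cb) :
    ∃ L : MonoidAlgebra K Q →ₐ[K] B, (∀ z, L z = 0 → z = 0) ∧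
      ∀ y, L (MonoidAlgebra.mapDomainRingHom K π y) = ψ y := by
  refine ⟨MonoidAlgebra.lift K _ _ cb, fun z hz => ?_, fun y => ?_⟩
  · refine MonoidAlgebra.ext (hLI (a₁ := z.coeff) (a₂ := (0 : MonoidAlgebra K Q).coeff) ?_)
    rw [MonoidAlgebra.lift_apply] at hz
    rw [Finsupp.linearCombination_apply, Finsupp.linearCombination_apply]
    simpa using hz
  · induction y using MonoidAlgebra.induction_linear with
    | zero => simp
    | add a b ha hb => simp only [map_add, ha, hb]
    | single m r =>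
      rw [MonoidAlgebra.mapDomainRingHom_apply, MonoidAlgebra.mapDomain_single, MonoidAlgebra.lift_single, hπ,
        ← hψ, ← map_smul]
      simp

/-- An element vanishing on the grouplike values vanishes on the group of distinct values. -/
theorem mapDomain_mk_eq_zero {B : Type u} [CommRing B] [Algebra K B] [Nontrivial B] {Γ : Type} [CommGroup Γ]
    (ψ : MonoidAlgebra K Γ →ₐ[K] B) (c : Γ →* B) (hψ : ∀ m, ψ (MonoidAlgebra.single m 1) = c m)
    (Δ : B →ₐ[K] B ⊗[K] B) (hΔ : ∀ m, Δ (c m) = c m ⊗ₜ c m) (y : MonoidAlgebra K Γ) (hy : ψ y = 0) :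
    MonoidAlgebra.mapDomainRingHom K (QuotientGroup.mk' c.ker) y = 0 := by
  let cb : Γ ⧸ c.ker →* B := QuotientGroup.lift c.ker c le_rfl
  have hinj : Function.Injective cb := fun a b => by
    refine QuotientGroup.induction_on a fun a => QuotientGroup.induction_on b fun b hab => ?_
    refine QuotientGroup.eq.2 ?_
    rw [MonoidHom.mem_ker, map_mul]
    change c a = c b at hab
    rw [← hab, ← map_mul, inv_mul_cancel, map_one]
  have hLI : LinearIndependent K cb :=
    linearIndependent_grouplike (B := B) (Λ := Γ ⧸ c.ker) cb hinj Δ fun x =>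
      QuotientGroup.induction_on x fun m => hΔ m
  obtain ⟨L, hL, h2⟩ := mapDomain_eq_zero ψ c cb (QuotientGroup.mk' c.ker) hψ (fun m => rfl) hLI
  exact hL _ ((h2 y).trans hy)

/-- The kernel of a family over a field contains a diagonalisable subgroup, nontrivial if the family is not
injective. -/
theorem exists_quot_of_not_injF (hφ : AutFam.IsHomFamily (Red.DS S M) G φ) (hGa : IsAffineHom G.hom)
    (hinj : ¬ InjF φ) :
    ∃ N : AddSubgroup M, N ≠ ⊤ ∧ ∀ (W : Over S) (t : W ⟶ Over.mk p) (h : W ⟶ Red.DS S M),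
      (∀ m ∈ N, dsVal h (Multiplicative.ofAdd m) = 1) → lift h t ≫ φ = 1 := by
  haveI : Nontrivial (KerRing p φ) := Ideal.Quotient.nontrivial_iff.2 (kerIdeal_ne_top p hφ hGa)
  obtain ⟨Δ, hΔ⟩ := exists_comul p hφ hGa
  let c := cK p φ
  let π : Multiplicative M →* Multiplicative M ⧸ c.ker := QuotientGroup.mk' c.ker
  refine ⟨Subgroup.toAddSubgroup' c.ker, fun htop => hinj fun W' t' g hg => dsVal_ext fun m => ?_, fun W' t' g hg => ?_⟩
  · have h1 : Multiplicative.toAdd m ∈ Subgroup.toAddSubgroup' c.ker := by rw [htop]; trivial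
    have hm : Ideal.Quotient.mk (kerIdeal p φ) (MonoidAlgebra.single m 1) = 1 := h1
    have hk := (ker_iff p hφ hGa t' g).1 hg (MonoidAlgebra.single m 1 - 1)
      (Ideal.Quotient.eq.1 (hm.trans (map_one _).symm))
    rw [map_sub, map_one, sub_eq_zero, evW, ev_single, map_one, _root_.one_mul] at hk
    rw [dsVal_one, ← hk]
    rfl
  · refine (ker_iff p hφ hGa t' g).2 fun y hy => ?_
    have hle : c.ker ≤ (dsValHom g).ker := fun m hm => hg (Multiplicative.toAdd m) hm
    let gb : Multiplicative M ⧸ c.ker →* Γ(W'.left, ⊤) := QuotientGroup.lift c.ker (dsValHom g) hle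
    have h1 : evW p t' g = (ev (kOf p t') gb).comp (MonoidAlgebra.mapDomainRingHom K π) :=
      MonoidAlgebra.ringHom_ext (fun r => by simp [evW, ev_single]) (fun m => by
        simp [evW, ev_single, gb, π])
    have h3 : MonoidAlgebra.mapDomainRingHom K π y = 0 :=
      mapDomain_mk_eq_zero (Ideal.Quotient.mkₐ K (kerIdeal p φ)) c (fun m => (cK_apply p m).symm) Δ hΔ y
        (Ideal.Quotient.eq_zero_iff_mem.2 hy)
    rw [h1, RingHom.comp_apply, h3, map_zero]

end Groth.Misc15.MTFin
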