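import Groth.Agent.Misc15.MTFin.Pieces2
import Groth.Agent.EtaleBase.FpqcDescent
import Groth.Agent.AlgSpBasic.SourceDescent

/-!
Finiteness of the universal subgroup.
-/

set_option autoImplicit false
set_option linter.style.haveILetI false
universe u

open CategoryTheory CategoryTheory.Limits MonoidalCategory CartesianMonoidalCategory MonObj AlgebraicGeometry
open Groth.Reductive Groth.Reductive.MTInt Groth.Misc15.MTSub

noncomputable section

namespace Groth.Misc15.MTFin

variable {S : Scheme.{u}}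

/-- A finite group trivialised over a nonempty affine scheme has finitely many characters. -/
theorem finite_of_triv {H : Over S} [GrpObj H] [IsFinite H.hom] {Y : Over S} [IsAffine Y.left] [Nonempty Y.left]
    (τ : Triv H Y) : Finite τ.M := by
  haveI : IsAffine (H ⊗ Y).left := isAffine_prod (inferInstanceAs (IsAffineHom H.hom)) Y
  have hl : IsFinite (snd H Y).left := MorphismProperty.pullback_snd (P := @IsFinite) H.hom Y.hom inferInstance
  rw [HasAffineProperty.iff_of_isAffine (P := @IsFinite)] at hl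
  have h2 : (τ.κE.symm.toRingHom.comp (sY H Y)).Finite :=
    (RingHom.Finite.of_surjective _ τ.κE.symm.surjective).comp hl.2
  have h3 : τ.κE.symm.toRingHom.comp (sY H Y) =
      algebraMap Γ(Y.left, ⊤) (MonoidAlgebra Γ(Y.left, ⊤) (Multiplicative τ.M)) := RingHom.ext fun r => by
    show τ.κE.symm (sY H Y r) = MonoidAlgebra.single 1 r
    rw [← τ.κ_single_one]
    exact τ.κE.symm_apply_apply _
  rw [h3] at h2
  haveI : Nonempty (⊤ : Y.left.Opens) := ⟨⟨Classical.arbitrary Y.left, trivial⟩⟩
  haveI : Nontrivial Γ(Y.left, ⊤) := inferInstance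
  haveI : Module.Finite Γ(Y.left, ⊤) (MonoidAlgebra Γ(Y.left, ⊤) (Multiplicative τ.M)) :=
    RingHom.finite_algebraMap.1 h2
  haveI := Module.Finite.finite_basis (MonoidAlgebra.basis (Multiplicative τ.M) Γ(Y.left, ⊤))
  exact Finite.of_equiv (Multiplicative τ.M) Multiplicative.toAdd

variable {G : Over S} [GrpObj G] {D : Pieces G} (X : Model D)

theorem kPts_subIncl_uOf_iff (i : Idx.{u}) {Z : Over S} (t : Z ⟶ D.P i) (g : Z ⟶ G) :
    KPts (subIncl (D.P i).hom (uOf (D.υ i))) t g ↔ Img (D.υ i) t g := by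
  rw [kPts_subIncl_iff]
  let K' := Red.bc (D.P i).hom (D.H i)
  let l := lift (bcPointEquiv (D.P i).hom (D.H i) _ (𝟙 K')) (pr (D.P i) K')
  have hval : bcPointEquiv (D.P i).hom G K' (uOf (D.υ i)) = l ≫ D.υ i := MulEquiv.apply_symm_apply _ _
  constructor
  · rintro ⟨k, rfl, rfl⟩
    refine ⟨k ≫ bcPointEquiv (D.P i).hom (D.H i) _ (𝟙 K'), ?_⟩
    rw [hval, ← comp_lift_assoc]
  · rintro ⟨h, rfl⟩
    let k : Z ⟶ (Over.map (D.P i).hom).obj K' :=
      Over.homMk (pullback.lift h.left t.left ((Over.w h).trans (Over.w t).symm)) (by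
        show pullback.lift _ _ _ ≫ pullback.snd _ _ ≫ (D.P i).hom = Z.hom
        rw [pullback.lift_snd_assoc, Over.w t])
    have hk₁ : k ≫ pr (D.P i) K' = t := Over.OverMorphism.ext (pullback.lift_snd _ _ _)
    refine ⟨k, hk₁, ?_⟩
    rw [hval, ← Category.assoc]
    congr 1
    rw [comp_lift, hk₁]
    congr 1
    refine Over.OverMorphism.ext ?_
    rw [Over.comp_left]
    have e : (bcPointEquiv (D.P i).hom (D.H i) _ (𝟙 K')).left = pullback.fst (D.H i).hom (D.P i).hom := by
      simp [bcPointEquiv, Adjunction.homEquiv_counit, K']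
    rw [e]
    exact pullback.lift_fst _ _ _

theorem isFinite_chartPullback (hfin : ∀ i : Idx.{u}, D.Ok i → Finite i.Λ) (hGa : IsAffineHom G.hom) (i : Idx.{u}) :
    IsFinite (pullback.snd X.Kun.hom (chart X i).left) := by
  obtain hP | hP := isEmpty_or_nonempty (D.P i).left
  · haveI : IsEmpty ↑(pullback X.Kun.hom (chart X i).left) :=
      ⟨fun z => hP.false (pullback.snd X.Kun.hom (chart X i).left z)⟩
    infer_instance
  haveI : Finite i.Λ := hfin i (D.ok_of_nonempty i hP)
  haveI := isMonHom_uOf (D.hom i)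
  haveI : IsClosedImmersion (uOf (D.υ i)).left :=
    isClosedImmersion_uOf (locTriv_DS' i.Λ) hGa (D.hom i) (D.inj i)
  obtain ⟨φ, hφ, -⟩ := (X.same_pts_iff_exists_iso (D.P i).hom (uOf (D.υ i)) (chart X i)).1 fun Z t g => by
    rw [kPts_subIncl_uOf_iff i t g]
    show _ ↔ KPts X.jK (t ≫ D.inc i ≫ X.q) g
    rw [← Category.assoc, X.pts, D.pts_inc_iff]
  haveI : IsFinite (Red.bc (D.P i).hom (D.H i)).hom :=
    MorphismProperty.pullback_snd (P := @IsFinite) _ _ (Groth.Reductive.MTCrit.isFinite_DS i.Λ)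
  rw [← MorphismProperty.cancel_left_of_respectsIso @IsFinite φ.hom]
  show IsFinite (φ.hom ≫ (Red.bc (chart X i).left X.Kun).hom)
  rw [hφ]
  infer_instance

theorem isFinite_Kun (hfin : ∀ i : Idx.{u}, D.Ok i → Finite i.Λ) (hGa : IsAffineHom G.hom) :
    IsFinite X.Kun.hom := by
  haveI := X.etale
  haveI := X.surj
  refine Groth.Reductive.of_fpqc_locally @IsFinite Groth.EtaleBase.descendsAlong_isFinite _ X.q.left inferInstance
    (fun V hV => ?_) fun u => ?_
  · obtain ⟨W, hW, hWV⟩ := Groth.Pi1Desc.IsCover.exists_isCompact_image_eq X.q.left hV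
    exact ⟨W, hW, hWV⟩
  obtain ⟨i, y, rfl⟩ := D.inc_surjective u
  refine ⟨(D.inc i).left.opensRange, ⟨y, rfl⟩, ?_⟩
  let ψ := (D.inc i).left.isoOpensRange.inv
  have hψ : (D.inc i).left.opensRange.ι ≫ X.q.left = ψ ≫ (chart X i).left := by
    show _ = ψ ≫ (D.inc i).left ≫ X.q.left
    rw [← Category.assoc ψ, Scheme.Hom.isoOpensRange_inv_comp]
  rw [hψ, ← MorphismProperty.cancel_left_of_respectsIso @IsFinite
    (pullbackLeftPullbackSndIso X.Kun.hom (chart X i).left ψ).hom]
  rw [pullbackLeftPullbackSndIso_hom_snd]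
  exact MorphismProperty.pullback_snd (P := @IsFinite) _ _ (isFinite_chartPullback X hfin hGa i)

theorem lfp_M (hP : ∀ i : Idx.{u}, LocallyOfFinitePresentation (D.P i).hom) :
    LocallyOfFinitePresentation X.M.hom := by
  haveI := X.etale
  haveI := X.surj
  haveI : LocallyOfFinitePresentation (X.q.left ≫ X.M.hom) := by
    rw [Over.w X.q]
    exact IsZariskiLocalAtSource.sigmaDesc (P := @LocallyOfFinitePresentation) fun i => hP i
  exact Groth.AlgSpBasic.SourceDescent.locallyOfFinitePresentation_of_comp_surjective X.q.left X.M.hom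

end Groth.Misc15.MTFin
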