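import Groth.Agent.Misc15.MTFin.Piece
import Groth.Agent.Misc15.MTSub.Space

/-!
The monomorphism schemes of all finite diagonalisable groups.
-/

set_option autoImplicit false
set_option linter.style.haveILetI false
universe u

open CategoryTheory CategoryTheory.Limits MonoidalCategory CartesianMonoidalCategory MonObj AlgebraicGeometry
open Groth.Reductive Groth.Reductive.MTInt Groth.Misc15.MTSub

noncomputable section

namespace Groth.Misc15.MTFin

variable {S : Scheme.{u}}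

theorem hom_ext_of_isEmpty {A B : Over S} [IsEmpty A.left] (a b : A ⟶ B) : a = b :=
  Over.OverMorphism.ext ((isInitialOfIsEmpty (X := A.left)).hom_ext _ _)

theorem exists_finPiece_or_empty (G : Over S) [GrpObj G] (hGa : IsAffineHom G.hom) [LocallyOfFinitePresentation G.hom]
    (i : Idx.{u}) :
    ∃ (P : Over S) (υ : Red.DS S i.Λ ⊗ P ⟶ G), IsAffineHom P.hom ∧ LocallyOfFinitePresentation P.hom ∧
      AutFam.IsHomFamily (Red.DS S i.Λ) G υ ∧ InjF υ ∧ (Nonempty P.left → Finite i.Λ) ∧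
      (Finite i.Λ → ∀ (X : Over S) (φ : Red.DS S i.Λ ⊗ X ⟶ G), AutFam.IsHomFamily (Red.DS S i.Λ) G φ → InjF φ →
        ∃! a : X ⟶ P, (Red.DS S i.Λ ◁ a) ≫ υ = φ) := by
  by_cases h : Finite i.Λ
  · obtain ⟨P, υ, h1, h2, h3, h4, h5⟩ := exists_piece G hGa i.Λ
    exact ⟨P, υ, h1, h2, h3, h4, fun _ => h, fun _ => h5⟩
  · let P : Over S := Over.mk (Scheme.emptyTo S)
    haveI : IsEmpty P.left := inferInstanceAs (IsEmpty (∅ : Scheme.{u}))
    haveI : IsEmpty (Red.DS S i.Λ ⊗ P).left := ⟨fun y => isEmptyElim ((snd (Red.DS S i.Λ) P).left y)⟩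
    let υ : Red.DS S i.Λ ⊗ P ⟶ G := Over.homMk ((isInitialOfIsEmpty (X := (Red.DS S i.Λ ⊗ P).left)).to _)
      ((isInitialOfIsEmpty (X := (Red.DS S i.Λ ⊗ P).left)).hom_ext _ _)
    refine ⟨P, υ, inferInstanceAs (IsAffineHom (Scheme.emptyTo S)),
      locallyOfFinitePresentation_of_isOpenImmersion (Scheme.emptyTo S),
      fun W a b t => ?_, fun W t g _ => ?_, fun hne => (IsEmpty.false hne.some).elim, fun hf => absurd hf h⟩
    · haveI : IsEmpty W.left := ⟨fun w => isEmptyElim (t.left w)⟩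
      exact hom_ext_of_isEmpty _ _
    · haveI : IsEmpty W.left := ⟨fun w => isEmptyElim (t.left w)⟩
      exact hom_ext_of_isEmpty _ _

theorem finite_of_equiv {i k : Idx.{u}} (e : k.Λ ≃+ i.Λ) (h : Finite k.Λ) : Finite i.Λ :=
  haveI := h
  Finite.of_equiv k.Λ e.toEquiv

theorem exists_finPieces (G : Over S) [GrpObj G] (hGa : IsAffineHom G.hom) [LocallyOfFinitePresentation G.hom] :
    ∃ D : Pieces G, (∀ i : Idx.{u}, D.Ok i ↔ Finite i.Λ) ∧ (∀ i : Idx.{u}, IsAffineHom (D.P i).hom) ∧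
      ∀ i : Idx.{u}, LocallyOfFinitePresentation (D.P i).hom := by
  choose P υ h1 h2 h3 h4 h5 h6 using exists_finPiece_or_empty G hGa
  exact ⟨⟨P, υ, fun i => by haveI := h2 i; infer_instance, fun i => by haveI := h1 i; infer_instance, h3, h4,
    fun i => Finite i.Λ, fun _ _ e => finite_of_equiv e, h5, h6⟩, fun _ => Iff.rfl, h1, h2⟩

end Groth.Misc15.MTFin
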