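import Groth.Agent.Misc15.MTSub.Invariant
import Groth.Agent.Misc15.MTFin.Pieces

/-!
Invariant functions for the relation on the schemes of monomorphisms from finite diagonalisable groups.
-/

set_option autoImplicit false
set_option linter.style.haveILetI false
universe u

open CategoryTheory CategoryTheory.Limits MonoidalCategory CartesianMonoidalCategory MonObj AlgebraicGeometry
open Groth.Reductive Groth.Reductive.MTInt Groth.Misc15.MTSub

noncomputable section

namespace Groth.Misc15.MTFin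

/-- An element is integral over the fixed subring of a finite family of automorphisms closed under
composition. -/
theorem isIntegral_of_perm {A : Type u} [CommRing A] {E : Type} [Fintype E] (one : E) (s : E → A →+* A)
    (hone : ∀ a, s one a = a) (hperm : ∀ e, ∃ π : E ≃ E, ∀ f a, s e (s f a) = s (π f) a)
    (A₀ : Subring A) (hA₀ : ∀ a, (∀ e, s e a = a) → a ∈ A₀) (a : A) : IsIntegral A₀ a := by
  classical
  obtain hA | hA := subsingleton_or_nontrivial A
  · rw [Subsingleton.elim a 0]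
    exact isIntegral_zero
  let p : Polynomial A := ∏ f : E, (Polynomial.X - Polynomial.C (s f a))
  have hmonic : p.Monic := Polynomial.monic_prod_of_monic _ _ fun f _ => Polynomial.monic_X_sub_C _
  have hcoef : ∀ n, p.coeff n ∈ A₀ := fun n => by
    refine hA₀ _ fun e => ?_
    obtain ⟨π, hπ⟩ := hperm e
    rw [← Polynomial.coeff_map]
    congr 1
    simp only [p, Polynomial.map_prod, Polynomial.map_sub, Polynomial.map_X, Polynomial.map_C, hπ]
    exact π.prod_comp fun f => Polynomial.X - Polynomial.C (s f a)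
  have hlifts : p ∈ Polynomial.lifts (algebraMap A₀ A) :=
    (Polynomial.lifts_iff_coeff_lifts p).2 fun n => ⟨⟨p.coeff n, hcoef n⟩, rfl⟩
  obtain ⟨q, hq, -, hqm⟩ := Polynomial.lifts_and_degree_eq_and_monic hlifts hmonic
  refine ⟨q, hqm, ?_⟩
  rw [← Polynomial.eval_map, hq, Polynomial.eval_prod]
  exact Finset.prod_eq_zero (Finset.mem_univ one) (by rw [Polynomial.eval_sub, Polynomial.eval_X, Polynomial.eval_C, hone, sub_self])

variable {S : Scheme.{u}} {G : Over S} [GrpObj G] (D : Pieces G)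

theorem σ_trans (i : Idx.{u}) (e f : i.Λ ≃+ i.Λ) :
    D.σ ⟨i, i, e⟩ ≫ D.σ ⟨i, i, f⟩ = D.σ ⟨i, i, e.trans f⟩ := by
  refine D.eq_of_family ?_
  rw [whiskerLeft_comp_assoc, D.σ_spec', whiskerLeft_dsFam, D.σ_spec', D.σ_spec', dsFam_comp]
  rfl

theorem σ_refl (i : Idx.{u}) : D.σ ⟨i, i, AddEquiv.refl i.Λ⟩ = 𝟙 _ := by
  refine D.eq_of_family ?_
  rw [D.σ_spec', whiskerLeft_id, Category.id_comp]
  exact dsFam_id _

theorem exists_invariant (hfin : ∀ i : Idx.{u}, D.Ok i → Finite i.Λ)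
    (haff : ∀ i : Idx.{u}, IsAffineHom (D.P i).hom) (u : D.U.left) :
    ∃ (O : D.U.left.Opens) (T : Over S) (π₀ : opnOb D.U O ⟶ T), u ∈ O ∧
      IsAffineOpen O ∧ IsAffine T.left ∧ LocallyQuasiFinite π₀.left ∧ LocallyOfFiniteType π₀.left ∧
      ∀ (Z : Over S) (r : Z ⟶ D.R) (a b : Z ⟶ opnOb D.U O),
        a ≫ opnIncl D.U O = r ≫ D.tR → b ≫ opnIncl D.U O = r ≫ D.sR → a ≫ π₀ = b ≫ π₀ := by
  obtain ⟨i, x, rfl⟩ := D.inc_surjective u
  haveI hΛ : Finite i.Λ := hfin i (D.ok_of_nonempty i ⟨x⟩)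
  haveI : Finite (i.Λ ≃+ i.Λ) := Finite.of_injective (fun e => (e : i.Λ → i.Λ)) DFunLike.coe_injective
  haveI := Fintype.ofFinite (i.Λ ≃+ i.Λ)
  obtain ⟨Vb, hVb, hxV, -⟩ := exists_isAffineOpen_mem_and_subset
    (U := (⊤ : S.Opens)) (show (D.P i).hom x ∈ (⊤ : S.Opens) from trivial)
  haveI : IsAffine (Vb : Scheme.{u}) := hVb
  let W : (D.P i).left.Opens := (D.P i).hom ⁻¹ᵁ Vb
  haveI := haff i
  have hW : IsAffineOpen W := hVb.preimage (D.P i).hom
  haveI : IsAffine (W : Scheme.{u}) := hW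
  let k : (W : Scheme.{u}) ⟶ (Vb : Scheme.{u}) := (D.P i).hom ∣_ Vb
  have hk : k ≫ Vb.ι = W.ι ≫ (D.P i).hom := morphismRestrict_ι (D.P i).hom Vb
  have hσW : ∀ e : i.Λ ≃+ i.Λ, Set.range (W.ι ≫ (D.σ ⟨i, i, e⟩).left) ⊆ Set.range W.ι := fun e => by
    rw [Scheme.Opens.range_ι]
    rintro _ ⟨w, rfl⟩
    show (D.P i).hom ((W.ι ≫ (D.σ ⟨i, i, e⟩).left) w) ∈ Vb
    rw [← Scheme.Hom.comp_apply, Category.assoc, Over.w (D.σ ⟨i, i, e⟩)]
    exact w.2
  let σW : (i.Λ ≃+ i.Λ) → ((W : Scheme.{u}) ⟶ (W : Scheme.{u})) := fun e => IsOpenImmersion.lift W.ι _ (hσW e)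
  have hσι : ∀ e, σW e ≫ W.ι = W.ι ≫ (D.σ ⟨i, i, e⟩).left := fun e => IsOpenImmersion.lift_fac _ _ _
  have hσk : ∀ e, σW e ≫ k = k := fun e => by
    rw [← cancel_mono Vb.ι, Category.assoc, hk, reassoc_of% (hσι e), Over.w (D.σ ⟨i, i, e⟩)]
  let A := Γ((W : Scheme.{u}), ⊤)
  let s : (i.Λ ≃+ i.Λ) → A →+* A := fun e => (σW e).appTop.hom
  let A₀ : Subring A :=
    { carrier := {a | ∀ e, s e a = a}
      mul_mem' := fun ha hb e => by rw [map_mul, ha, hb]
      one_mem' := fun e => map_one _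
      add_mem' := fun ha hb e => by rw [map_add, ha, hb]
      zero_mem' := fun e => map_zero _
      neg_mem' := fun ha e => by rw [map_neg, ha] }
  have hone : σW (AddEquiv.refl i.Λ) = 𝟙 _ := by
    rw [← cancel_mono W.ι, hσι, σ_refl, Category.id_comp]
    exact Category.comp_id _
  have htrans : ∀ e f, σW e ≫ σW f = σW (e.trans f) := fun e f => by
    rw [← cancel_mono W.ι, Category.assoc, hσι, reassoc_of% (hσι e), hσι, ← σ_trans D i e f]
    rfl
  haveI : Algebra.IsIntegral A₀ A := ⟨isIntegral_of_perm (AddEquiv.refl i.Λ) s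
    (fun a => by simp only [s, hone, Scheme.Hom.id_appTop]; rfl)
    (fun e => ⟨⟨fun f => e.trans f, fun f => e.symm.trans f,
      fun f => by ext; simp, fun f => by ext; simp⟩, fun f a => by
      show (σW e).appTop ((σW f).appTop a) = (σW (e.trans f)).appTop a
      rw [← htrans, Scheme.Hom.comp_appTop]
      rfl⟩) A₀ fun a ha => ha⟩
  have hk₀ : ∀ v, k.appTop v ∈ A₀ := fun v e => by
    show (σW e).appTop (k.appTop v) = k.appTop v
    rw [← CommRingCat.comp_apply, ← Scheme.Hom.comp_appTop, hσk]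
  let k₀ : Γ((Vb : Scheme.{u}), ⊤) ⟶ CommRingCat.of A₀ :=
    CommRingCat.ofHom ((k.appTop.hom).codRestrict A₀ hk₀)
  let j : CommRingCat.of A₀ ⟶ A := CommRingCat.ofHom A₀.subtype
  let T : Over S := Over.mk (Spec.map k₀ ≫ (Vb : Scheme.{u}).isoSpec.inv ≫ Vb.ι)
  let π' : (W : Scheme.{u}) ⟶ Spec (CommRingCat.of A₀) := (W : Scheme.{u}).toSpecΓ ≫ Spec.map j
  have hπT : π' ≫ T.hom = W.ι ≫ (D.P i).hom := by
    show ((W : Scheme.{u}).toSpecΓ ≫ Spec.map j) ≫ Spec.map k₀ ≫ _ = _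
    rw [Category.assoc, ← Spec.map_comp_assoc, show k₀ ≫ j = k.appTop from rfl, ← Scheme.toSpecΓ_naturality_assoc,
      ← Scheme.isoSpec_hom, Iso.hom_inv_id_assoc, hk]
  have hπσ : ∀ e, σW e ≫ π' = π' := fun e => by
    show σW e ≫ (W : Scheme.{u}).toSpecΓ ≫ Spec.map j = _
    rw [Scheme.toSpecΓ_naturality_assoc, ← Spec.map_comp, show j ≫ (σW e).appTop = j from
      CommRingCat.hom_ext (RingHom.ext fun a => a.2 e)]
  haveI : IsIntegralHom π' := by
    haveI : IsIntegralHom (Spec.map j) := IsIntegralHom.SpecMap_iff.2 (fun x => Algebra.IsIntegral.isIntegral (R := A₀) x)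
    show IsIntegralHom ((W : Scheme.{u}).toSpecΓ ≫ Spec.map j)
    rw [← Scheme.isoSpec_hom]
    infer_instance
  haveI : LocallyOfFiniteType π' := by
    haveI := D.lft i
    haveI : LocallyOfFiniteType (π' ≫ T.hom) := by rw [hπT]; infer_instance
    exact locallyOfFiniteType_of_comp π' T.hom
  haveI : IsFinite π' := (IsFinite.iff_isIntegralHom_and_locallyOfFiniteType _).2 ⟨inferInstance, inferInstance⟩
  let O : D.U.left.Opens := (D.inc i).left ''ᵁ W
  let ej : (O : Scheme.{u}) ≅ (W : Scheme.{u}) :=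
    IsOpenImmersion.isoOfRangeEq O.ι (W.ι ≫ (D.inc i).left) (by
      rw [Scheme.Opens.range_ι, Scheme.Hom.comp_base, TopCat.coe_comp, Set.range_comp, Scheme.Opens.range_ι]
      rfl)
  have hej : ej.hom ≫ W.ι ≫ (D.inc i).left = O.ι := IsOpenImmersion.isoOfRangeEq_hom_fac _ _ _
  let π₀ : opnOb D.U O ⟶ T := Over.homMk (ej.hom ≫ π') (by
    show (ej.hom ≫ π') ≫ T.hom = O.ι ≫ D.U.hom
    rw [Category.assoc, hπT, ← hej, Category.assoc, Category.assoc, Over.w (D.inc i)])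
  let iW : opnOb D.U O ⟶ D.P i := Over.homMk (ej.hom ≫ W.ι) (by
    show (ej.hom ≫ W.ι) ≫ (D.P i).hom = O.ι ≫ D.U.hom
    rw [← hej, Category.assoc, Category.assoc, Category.assoc, Over.w (D.inc i)])
  have hiW : iW ≫ D.inc i = opnIncl D.U O := Over.OverMorphism.ext ((Category.assoc _ _ _).trans hej)
  refine ⟨O, T, π₀, ⟨x, hxV, rfl⟩, hW.image_of_isOpenImmersion _, inferInstanceAs (IsAffine (Spec _)),
    inferInstanceAs (LocallyQuasiFinite (ej.hom ≫ π')), inferInstanceAs (LocallyOfFiniteType (ej.hom ≫ π')),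
    fun Z r p q hp hq => ?_⟩
  have hs : D.Same ((p ≫ iW) ≫ D.inc i) ((q ≫ iW) ≫ D.inc i) := by
    simp only [Category.assoc, hiW, hp, hq]
    exact D.same_of_rel r
  choose V e hzV _ hV using exists_comparison (isHomFamily_whisker (D.hom i) (p ≫ iW))
    (isHomFamily_whisker (D.hom i) (q ≫ iW)) ((D.inj i).comp _) ((D.inj i).comp _) ((Pieces.same_inc_iff _ _).1 hs)
  refine Over.OverMorphism.ext (Scheme.Cover.hom_ext (Scheme.openCoverOfIsOpenCover _ V (.mk (top_unique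
    fun z _ => TopologicalSpace.Opens.mem_iSup.mpr ⟨z, hzV z⟩))) _ _ fun z => ?_)
  have h1 : (opnIncl Z (V z) ≫ q ≫ iW) ≫ D.σ ⟨i, i, e z⟩ = opnIncl Z (V z) ≫ p ≫ iW := by
    refine D.eq_of_family ?_
    rw [whiskerLeft_comp_assoc, D.σ_spec', whiskerLeft_dsFam]
    have h := hV z
    simp only [whiskerLeft_comp, Category.assoc] at h ⊢
    exact h.symm
  have h2 : (((V z).ι ≫ q.left) ≫ ej.hom) ≫ σW (e z) = ((V z).ι ≫ p.left) ≫ ej.hom := by
    rw [← cancel_mono W.ι, Category.assoc _ (σW _), hσι]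
    have h := congrArg CommaMorphism.left h1
    simp only [Over.comp_left, iW, opnIncl, Over.homMk_left] at h
    simpa only [Category.assoc] using h
  show (V z).ι ≫ p.left ≫ ej.hom ≫ π' = (V z).ι ≫ q.left ≫ ej.hom ≫ π'
  have h3 := congrArg (· ≫ π') h2
  simp only [Category.assoc, hπσ] at h3
  exact h3.symm

end Groth.Misc15.MTFin
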