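import Groth.Agent.Misc15.MTFin.FieldKer
import Groth.Agent.Reductive.HomScheme.Apps
import Groth.Agent.Reductive.TrivialLocus
import Groth.Agent.Reductive.MTCrit.Torsion

/-!
The schemes of monomorphisms from a finite diagonalisable group to an affine group of finite presentation.
-/

set_option autoImplicit false
set_option linter.style.haveILetI false
universe u

open CategoryTheory CategoryTheory.Limits MonoidalCategory CartesianMonoidalCategory MonObj AlgebraicGeometry
open Groth.Reductive Groth.Reductive.FreeDiag Groth.Misc15.MTSub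

noncomputable section

namespace Groth.Misc15.MTFin

variable {S : Scheme.{u}}

section Family

variable {H G : Over S} [GrpObj H] [GrpObj G] {X : Over S}

theorem trivOn_uOf_iff (φ : H ⊗ X ⟶ G) (W : Over X.left) :
    TrivOn (uOf φ) W ↔ ∀ (V : Over S) (t : V ⟶ (Over.map X.hom).obj W) (h : V ⟶ H),
      lift h t ≫ (H ◁ pr X W) ≫ φ = 1 := by
  constructor
  · intro hk V t h
    rw [lift_whiskerLeft_assoc]
    obtain ⟨c, hc⟩ := exists_over_pr (X := X) (t ≫ pr X W)
    let x := (bcPointEquiv X.hom H (Over.mk (t ≫ pr X W).left)).symm (c.hom ≫ h)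
    have h1 := congrArg (bcPointEquiv X.hom G _) (hk _ (Over.homMk t.left rfl) x)
    rw [pt_uOf, MulEquiv.apply_symm_apply, map_one, ← hc, ← comp_lift_assoc] at h1
    rw [← cancel_epi c.hom, h1, MonObj.comp_one]
  · intro hi V w x
    apply (bcPointEquiv X.hom G V).injective
    rw [map_one, pt_uOf]
    have h1 := hi _ ((Over.map X.hom).map w) (bcPointEquiv X.hom H V x)
    rw [lift_whiskerLeft_assoc] at h1
    rw [← h1]
    congr 2
    exact Over.OverMorphism.ext (Over.w w).symm

/-- A family composed with a homomorphism of sources. -/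
theorem isHomFamily_precomp {H' : Over S} [GrpObj H'] (d : H' ⟶ H)
    (hd : ∀ {Z : Over S} (a b : Z ⟶ H'), (a * b) ≫ d = (a ≫ d) * (b ≫ d)) {φ : H ⊗ X ⟶ G}
    (hφ : AutFam.IsHomFamily H G φ) : AutFam.IsHomFamily H' G ((d ▷ X) ≫ φ) := fun W a b t => by
  simp only [lift_whiskerRight_assoc, hd]
  exact hφ W _ _ t

end Family

variable {G : Over S} [GrpObj G] {M : Type} [AddCommGroup M]

theorem isClosed_monoLocus [Finite M] (hGa : IsAffineHom G.hom) [LocallyOfFinitePresentation G.hom] {A : Over S}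
    (υ : Red.DS S M ⊗ A ⟶ G) (hυ : AutFam.IsHomFamily (Red.DS S M) G υ) (U : A.left.Opens)
    (hU : ∀ a : A.left, a ∈ U ↔ Mono ((Over.pullback (A.left.fromSpecResidueField a)).map (uOf υ)).left) :
    IsClosed (U : Set A.left) := by
  haveI := isMonHom_uOf hυ
  haveI : IsSeparated (Red.bc A.hom G).hom :=
    MorphismProperty.pullback_snd (P := @IsSeparated) _ _ inferInstance
  haveI : LocallyOfFinitePresentation (Red.bc A.hom G).hom :=
    MorphismProperty.pullback_snd (P := @LocallyOfFinitePresentation) _ _ inferInstance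
  have hmk : ∀ N : AddSubgroup M, ∀ {Z : Over S} (a b : Z ⟶ Red.DS S (M ⧸ N)),
      (a * b) ≫ dsHom S (QuotientAddGroup.mk' N) = (a ≫ dsHom S (QuotientAddGroup.mk' N)) *
        (b ≫ dsHom S (QuotientAddGroup.mk' N)) := fun N _ a b => dsHom_mul _ a b
  have key : ∀ N : AddSubgroup M, ∃ V : A.left.Opens, ∀ a : A.left, a ∈ V ↔
      ∀ (W : Over S) (t : W ⟶ Over.mk (A.left.fromSpecResidueField a ≫ A.hom)) (h : W ⟶ Red.DS S M),
        (∀ m ∈ N, dsVal h (Multiplicative.ofAdd m) = 1) →
          lift h t ≫ (Red.DS S M ◁ (Over.homMk (A.left.fromSpecResidueField a) rfl :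
            Over.mk (A.left.fromSpecResidueField a ≫ A.hom) ⟶ A)) ≫ υ = 1 := by
    intro N
    haveI : Finite (M ⧸ N) := inferInstance
    let ψ := (dsHom S (QuotientAddGroup.mk' N) ▷ A) ≫ υ
    have hψ := isHomFamily_precomp (dsHom S (QuotientAddGroup.mk' N)) (hmk N) hυ
    haveI := isMonHom_uOf hψ
    obtain ⟨V, -, hV, -⟩ := exists_clopen_trivLocus' (u := uOf ψ)
      (isMultTypeFT_bc (isMultTypeFT_DS inferInstance) A.hom) (Or.inr inferInstance)
    refine ⟨V, fun a => ?_⟩
    rw [hV, pullback_map_eq_one_iff, trivOn_uOf_iff]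
    constructor
    · intro h W t g hg
      let χ : Multiplicative (M ⧸ N) →* Γ(W.left, ⊤) := AddMonoidHom.toMultiplicativeLeft
        (QuotientAddGroup.lift N (MonoidHom.toAdditiveRight (dsValHom g)) fun m hm =>
          congrArg Additive.ofMul (hg m hm))
      have hg' : dsMk W χ ≫ dsHom S (QuotientAddGroup.mk' N) = g := dsVal_ext fun m => by
        rw [dsVal_comp_dsHom, dsVal_dsMk]
        rfl
      have h1 := h W t (dsMk W χ)
      rw [lift_whiskerLeft_assoc, lift_whiskerRight_assoc, hg'] at h1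
      rw [lift_whiskerLeft_assoc]
      exact h1
    · intro h W t g
      rw [lift_whiskerLeft_assoc, lift_whiskerRight_assoc]
      have h1 := h W t (g ≫ dsHom S (QuotientAddGroup.mk' N)) fun m hm => by
        rw [dsVal_comp_dsHom, show AddMonoidHom.toMultiplicative (QuotientAddGroup.mk' N) (Multiplicative.ofAdd m) = 1
          from congrArg Multiplicative.ofAdd ((QuotientAddGroup.eq_zero_iff m).2 hm), ← dsValHom_apply, map_one]
      rw [lift_whiskerLeft_assoc] at h1
      exact h1
  choose V hV using key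
  have hcompl : (U : Set A.left)ᶜ = ⋃ N ∈ {N : AddSubgroup M | N ≠ ⊤}, (V N : Set A.left) := by
    ext a
    simp only [Set.mem_compl_iff, SetLike.mem_coe, Set.mem_iUnion, exists_prop, Set.mem_setOf_eq, hU, mono_map_iff,
      kerTriv_uOf_iff, hV]
    let p := A.left.fromSpecResidueField a ≫ A.hom
    constructor
    · intro hn
      exact exists_quot_of_not_injF (K := A.left.residueField a) p
        (isHomFamily_whisker hυ (Over.homMk (A.left.fromSpecResidueField a) rfl : Over.mk p ⟶ A)) hGa hn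
    · rintro ⟨N, hN, h⟩ hinj
      apply hN
      obtain ⟨W, t, g, σ, hσ, hh, -⟩ := exists_pt (K := A.left.residueField a) p
        (MonoidAlgebra (A.left.residueField a) (Multiplicative (M ⧸ N)))
        ((MonoidAlgebra.of _ _).comp (AddMonoidHom.toMultiplicative (QuotientAddGroup.mk' N)))
      have hg : g = 1 := hinj W t g (h W t g fun m hm => by
        rw [hh, MonoidHom.comp_apply, show AddMonoidHom.toMultiplicative (QuotientAddGroup.mk' N) (Multiplicative.ofAdd m) = 1
          from congrArg Multiplicative.ofAdd ((QuotientAddGroup.eq_zero_iff m).2 hm), map_one, map_one])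
      refine eq_top_iff.2 fun m _ => ?_
      have h1 := hh (Multiplicative.ofAdd m)
      rw [hg, dsVal_one, ← map_one σ] at h1
      have h2 := MonoidAlgebra.of_injective ((hσ h1).symm.trans (map_one _).symm)
      exact (QuotientAddGroup.eq_zero_iff m).1 (congrArg Multiplicative.toAdd h2)
  rw [← isOpen_compl_iff, hcompl]
  exact isOpen_biUnion fun N _ => (V N).2

/-- The monomorphisms from a finite diagonalisable group are parametrised by a scheme affine and of finite
presentation over the base. -/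
theorem exists_piece (G : Over S) [GrpObj G] (hGa : IsAffineHom G.hom) [LocallyOfFinitePresentation G.hom]
    (M : Type) [AddCommGroup M] [Finite M] :
    ∃ (P : Over S) (υ : Red.DS S M ⊗ P ⟶ G), IsAffineHom P.hom ∧ LocallyOfFinitePresentation P.hom ∧
      AutFam.IsHomFamily (Red.DS S M) G υ ∧ InjF υ ∧
      ∀ (X : Over S) (φ : Red.DS S M ⊗ X ⟶ G), AutFam.IsHomFamily (Red.DS S M) G φ → InjF φ →
        ∃! a : X ⟶ P, (Red.DS S M ◁ a) ≫ υ = φ := by
  have hDS : SGA3x.IsMultTypeFT (Red.DS S M) := isMultTypeFT_DS inferInstance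
  haveI : IsFinite (Red.DS S M).hom := Groth.Reductive.MTCrit.isFinite_DS M
  obtain ⟨hf, hp⟩ := Groth.Reductive.flat_lfp_of_multTypeFT _ hDS Groth.AlgSp2.flat_descendsAlong inferInstance
  haveI := hf
  haveI := hp
  obtain ⟨A, υ, hA, hAa, -, hAp⟩ := Groth.Reductive.HomScheme.exists_homGrp (Red.DS S M) G
  haveI := isMonHom_uOf hA.1
  haveI : IsSeparated (Red.bc A.hom G).hom :=
    MorphismProperty.pullback_snd (P := @IsSeparated) _ _ inferInstance
  haveI := hAa
  haveI := hAp inferInstance
  obtain ⟨U, hU, hmono⟩ := exists_open_monoLocus (u := uOf υ) (isMultTypeFT_bc hDS A.hom)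
  haveI : IsClosedImmersion U.ι := by
    haveI : IsImmersion U.ι := inferInstance
    exact IsClosedImmersion.of_isPreimmersion U.ι (by
      rw [Scheme.Opens.range_ι]; exact isClosed_monoLocus hGa υ hA.1 U hU)
  let P : Over S := Over.mk (U.ι ≫ A.hom)
  let k : P ⟶ A := Over.homMk U.ι rfl
  haveI : Mono k := (Over.forget S).mono_of_mono_map (inferInstanceAs (Mono U.ι))
  have hk : InjF ((Red.DS S M ◁ k) ≫ υ) :=
    (kerTriv_uOf_iff υ (Over.mk U.ι)).1 ((mono_map_iff U.ι).1 hmono)
  refine ⟨P, (Red.DS S M ◁ k) ≫ υ, inferInstanceAs (IsAffineHom (U.ι ≫ A.hom)),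
    inferInstanceAs (LocallyOfFinitePresentation (U.ι ≫ A.hom)), isHomFamily_whisker hA.1 k, hk,
    fun X φ hφ hi => ?_⟩
  obtain ⟨a, ha, hau⟩ := hA.2 X φ hφ
  beta_reduce at ha hau
  have hrange : Set.range a.left ⊆ (U : Set A.left) := by
    rintro _ ⟨x, rfl⟩
    let p := X.left.fromSpecResidueField x
    let Xp : Over S := Over.mk (p ≫ X.hom)
    let jp : Xp ⟶ X := Over.homMk p rfl
    have e : (p ≫ a.left).base (IsLocalRing.closedPoint _) = a.left x := by
      rw [Scheme.Hom.comp_apply, Scheme.fromSpecResidueField_apply]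
    have h2 : Mono ((Over.pullback (p ≫ a.left)).map (uOf υ)).left := by
      rw [mono_map_iff, kerTriv_uOf_iff]
      let c : (Over.map A.hom).obj (Over.mk (p ≫ a.left)) ⟶ Xp := Over.homMk (𝟙 _) (by
        show 𝟙 _ ≫ p ≫ X.hom = (p ≫ a.left) ≫ A.hom
        rw [Category.id_comp, Category.assoc, Over.w a])
      have hc : c ≫ jp ≫ a = pr A (Over.mk (p ≫ a.left)) := Over.OverMorphism.ext (Category.id_comp _)
      rw [← hc, whiskerLeft_comp_assoc, whiskerLeft_comp_assoc, ha]
      exact (hi.comp jp).comp c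
    show a.left x ∈ U
    rw [hU, ← e]
    exact (prop_map_fieldPoint_iff (uOf υ) (MorphismProperty.monomorphisms Scheme.{u}) _ (p ≫ a.left)).1 h2
  let b : X ⟶ P := Over.homMk (IsOpenImmersion.lift U.ι a.left (by rwa [Scheme.Opens.range_ι])) (by
    show _ ≫ U.ι ≫ A.hom = X.hom
    rw [IsOpenImmersion.lift_fac_assoc, Over.w a])
  have hb : b ≫ k = a := Over.OverMorphism.ext (IsOpenImmersion.lift_fac _ _ _)
  refine ⟨b, by beta_reduce; rw [← whiskerLeft_comp_assoc, hb, ha], fun c hc => ?_⟩
  rw [← cancel_mono k, hb]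
  exact hau _ (by rw [whiskerLeft_comp_assoc]; exact hc)

end Groth.Misc15.MTFin
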