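import Groth.Agent.Misc15.MTFin.Invariant
import Groth.Agent.Misc15.MTSub.Convert
import Groth.Agent.Pi1Quot.SigmaFinite
import Groth.Agent.FlatMor2.Chevalley.Approx

/-!
The images of the pieces in the scheme of finite subgroups of multiplicative type.
-/

set_option autoImplicit false
set_option linter.style.haveILetI false
universe u

open CategoryTheory CategoryTheory.Limits MonoidalCategory CartesianMonoidalCategory MonObj AlgebraicGeometry
open Groth.Reductive Groth.Reductive.MTInt Groth.Misc15.MTSub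

noncomputable section

namespace Groth.Misc15.MTFin

variable {S : Scheme.{u}} {G : Over S} [GrpObj G] {D : Pieces G} (X : Model D)

/-- The chart of a piece. -/
def chart (i : Idx.{u}) : D.P i ⟶ X.M := D.inc i ≫ X.q

instance etale_chart (i : Idx.{u}) : Etale (chart X i).left :=
  haveI := X.etale
  inferInstanceAs (Etale ((D.inc i).left ≫ X.q.left))

theorem chart_σ (i k : Idx.{u}) (e : k.Λ ≃+ i.Λ) : D.σ ⟨i, k, e⟩ ≫ chart X i = chart X k := by
  have h := X.eq_of_same (D.same_σ ⟨i, k, e⟩ (𝟙 _))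
  simp only [Category.id_comp, Category.assoc] at h
  exact h.symm

theorem exists_local_iso {i k : Idx.{u}} {Z : Over S} (a : Z ⟶ D.P i) (b : Z ⟶ D.P k)
    (h : a ≫ chart X i = b ≫ chart X k) (z : Z.left) :
    ∃ (W : Z.left.Opens) (e : k.Λ ≃+ i.Λ), z ∈ W ∧ opnIncl Z W ≫ b ≫ D.σ ⟨i, k, e⟩ = opnIncl Z W ≫ a := by
  have h' : (a ≫ D.inc i) ≫ X.q = (b ≫ D.inc k) ≫ X.q := by
    rw [Category.assoc, Category.assoc]; exact h
  obtain ⟨r, hr₁, hr₂⟩ : ∃ r, r ≫ D.tR = a ≫ D.inc i ∧ r ≫ D.sR = b ≫ D.inc k :=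
    ⟨X.sq.lift _ _ h', X.sq.lift_fst _ _ _, X.sq.lift_snd _ _ _⟩
  have hr : D.Same (a ≫ D.inc i) (b ≫ D.inc k) := by
    rw [← hr₁, ← hr₂]
    exact D.same_of_rel r
  obtain ⟨W, e, hz, -, hW⟩ := exists_comparison (isHomFamily_whisker (D.hom i) a)
    (isHomFamily_whisker (D.hom k) b) ((D.inj i).comp a) ((D.inj k).comp b) ((Pieces.same_inc_iff _ _).1 hr) z
  refine ⟨W, e, hz, D.eq_of_family ?_⟩
  simp only [whiskerLeft_comp, Category.assoc] at hW ⊢
  rw [D.σ_spec', hW, ← whiskerLeft_dsFam, ← whiskerLeft_dsFam]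

theorem isIso_of_common {i k : Idx.{u}} (y : (D.P i).left) (y' : (D.P k).left)
    (h : (chart X i).left y = (chart X k).left y') : Nonempty (k.Λ ≃+ i.Λ) := by
  obtain ⟨ζ, -, -⟩ := Scheme.Pullback.exists_preimage_pullback y y' h
  let Z : Over S := Over.mk (pullback.fst (chart X i).left (chart X k).left ≫ (D.P i).hom)
  let a : Z ⟶ D.P i := Over.homMk (pullback.fst (chart X i).left (chart X k).left) rfl
  let b : Z ⟶ D.P k := Over.homMk (pullback.snd (chart X i).left (chart X k).left) (by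
    show _ ≫ _ = pullback.fst _ _ ≫ (D.P i).hom
    rw [← Over.w (chart X k), ← Category.assoc, ← pullback.condition, Category.assoc, Over.w (chart X i)])
  obtain ⟨W, e, -, -⟩ := exists_local_iso X a b (Over.OverMorphism.ext pullback.condition) ζ
  exact ⟨e⟩

/-- The image of a piece. -/
def imgOpen (i : Idx.{u}) : X.M.left.Opens :=
  ⟨Set.range (chart X i).left, (chart X i).left.isOpenMap.isOpen_range⟩

theorem exists_mem_imgOpen (m : X.M.left) : ∃ i : Idx.{u}, m ∈ imgOpen X i := by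
  obtain ⟨x, rfl⟩ := X.surj.1 m
  obtain ⟨i, y, rfl⟩ := D.inc_surjective x
  exact ⟨i, y, Scheme.Hom.comp_apply _ _ _⟩

theorem isClosed_imgOpen (i : Idx.{u}) : IsClosed (imgOpen X i : Set X.M.left) := by
  rw [← isOpen_compl_iff, isOpen_iff_forall_mem_open]
  intro m hm
  obtain ⟨k, hk⟩ := exists_mem_imgOpen X m
  refine ⟨imgOpen X k, fun n hn hn' => hm ?_, (imgOpen X k).2, hk⟩
  obtain ⟨z, rfl⟩ := hn
  obtain ⟨y, hy⟩ := hn'
  obtain ⟨e⟩ := isIso_of_common X y z hy
  obtain ⟨w, hw⟩ := hk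
  refine ⟨(D.σ ⟨i, k, e⟩).left w, ?_⟩
  rw [← Scheme.Hom.comp_apply, ← Over.comp_left, chart_σ]
  exact hw

/-- The chart onto the image of a piece. -/
def chartTo (i : Idx.{u}) : (D.P i).left ⟶ (imgOpen X i : Scheme.{u}) :=
  IsOpenImmersion.lift (imgOpen X i).ι (chart X i).left (by rw [Scheme.Opens.range_ι]; exact fun _ h => h)

theorem chartTo_ι (i : Idx.{u}) : chartTo X i ≫ (imgOpen X i).ι = (chart X i).left :=
  IsOpenImmersion.lift_fac _ _ _

theorem surjective_chartTo (i : Idx.{u}) : Surjective (chartTo X i) := ⟨fun m => by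
  obtain ⟨y, hy⟩ := m.2
  refine ⟨y, (imgOpen X i).ι.isOpenEmbedding.injective ?_⟩
  rw [← Scheme.Hom.comp_apply, chartTo_ι]
  exact hy⟩

theorem universallyClosed_chartTo (hfin : ∀ i : Idx.{u}, D.Ok i → Finite i.Λ)
    (haff : ∀ i : Idx.{u}, IsAffineHom (D.P i).hom) (hGa : IsAffineHom G.hom) (i : Idx.{u}) :
    UniversallyClosed (chartTo X i) := by
  haveI := haff i
  haveI := surjective_chartTo X i
  haveI : Etale (chartTo X i) := by
    haveI : Etale (chartTo X i ≫ (imgOpen X i).ι) := by rw [chartTo_ι]; infer_instance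
    exact MorphismProperty.of_postcomp (W := @Etale) (W' := @IsOpenImmersion) _ (imgOpen X i).ι inferInstance inferInstance
  haveI : QuasiCompact (chartTo X i) := by
    haveI := X.isSeparated_M hGa
    haveI : QuasiCompact (chartTo X i ≫ (imgOpen X i).ι ≫ X.M.hom) := by
      rw [← Category.assoc, chartTo_ι, Over.w (chart X i)]; infer_instance
    exact MorphismProperty.of_postcomp (W := @QuasiCompact) (W' := @QuasiSeparated) _ ((imgOpen X i).ι ≫ X.M.hom)
      inferInstance inferInstance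
  let f := chartTo X i
  refine MorphismProperty.of_pullback_snd_of_descendsAlong (P := @UniversallyClosed)
    (Q := @Surjective ⊓ @Flat ⊓ @QuasiCompact) (f := f) (g := f) ⟨⟨inferInstance, inferInstance⟩, inferInstance⟩ ?_
  let E : Type u := {e : ULift.{u} (i.Λ ≃+ i.Λ) // Nonempty (D.P i).left}
  haveI : Finite E := by
    obtain hP | hP := isEmpty_or_nonempty (D.P i).left
    · haveI : IsEmpty E := ⟨fun e => not_nonempty_iff.2 hP e.2⟩
      infer_instance
    · haveI : Finite i.Λ := hfin i (D.ok_of_nonempty i hP)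
      haveI : Finite (i.Λ ≃+ i.Λ) := Finite.of_injective (fun e => (e : i.Λ → i.Λ)) DFunLike.coe_injective
      infer_instance
  have hσf : ∀ e : i.Λ ≃+ i.Λ, (D.σ ⟨i, i, e⟩).left ≫ f = f := fun e => by
    rw [← cancel_mono (imgOpen X i).ι, Category.assoc, chartTo_ι, ← Over.comp_left, chart_σ]
  let h : (∐ fun _ : E => (D.P i).left) ⟶ pullback f f :=
    Limits.Sigma.desc fun e => pullback.lift (D.σ ⟨i, i, e.1.down⟩).left (𝟙 _) ((hσf e.1.down).trans (Category.id_comp f).symm)
  haveI : Surjective h := ⟨fun ζ => by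
    let Z : Over S := Over.mk (pullback.snd f f ≫ (D.P i).hom)
    let b : Z ⟶ D.P i := Over.homMk (pullback.snd f f) rfl
    let a : Z ⟶ D.P i := Over.homMk (pullback.fst f f) (by
      show _ = pullback.snd f f ≫ (D.P i).hom
      rw [← Over.w (chart X i), ← chartTo_ι, Category.assoc, ← Category.assoc, pullback.condition]
      rw [Category.assoc])
    obtain ⟨W, e, hW, he⟩ := exists_local_iso X a b (Over.OverMorphism.ext (by
      show pullback.fst f f ≫ (chart X i).left = pullback.snd f f ≫ (chart X i).left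
      rw [← chartTo_ι, ← Category.assoc, pullback.condition, Category.assoc])) ζ
    refine ⟨Limits.Sigma.ι (fun _ : E => (D.P i).left) ⟨⟨e⟩, ⟨pullback.snd f f ζ⟩⟩ (pullback.snd f f ζ), ?_⟩
    have h1 : W.ι ≫ pullback.snd f f ≫ Limits.Sigma.ι (fun _ : E => (D.P i).left) ⟨⟨e⟩, ⟨pullback.snd f f ζ⟩⟩ ≫ h = W.ι := by
      rw [Limits.Sigma.ι_desc]
      refine pullback.hom_ext ?_ ?_
      · simp only [Category.assoc, pullback.lift_fst]
        exact congrArg CommaMorphism.left he
      · simp only [Category.assoc, pullback.lift_snd, Category.comp_id]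
    have h2 := congrArg (fun φ : (W : Scheme.{u}) ⟶ pullback f f => φ ⟨ζ, hW⟩) h1
    simpa only [Scheme.Hom.comp_apply, Scheme.Opens.ι_apply] using h2⟩
  haveI : UniversallyClosed (h ≫ pullback.snd f f) := by
    have e : h ≫ pullback.snd f f = Limits.Sigma.desc fun _ : E => 𝟙 (D.P i).left :=
      Sigma.hom_ext _ _ fun e => by rw [Limits.Sigma.ι_desc_assoc, pullback.lift_snd, Limits.Sigma.ι_desc]
    rw [e]
    haveI := Groth.Pi1Quot.isFinite_sigmaDesc fun _ : E => 𝟙 (D.P i).left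
    infer_instance
  exact UniversallyClosed.of_comp_surjective h (pullback.snd f f)

theorem isAffineHom_imgOpen (hfin : ∀ i : Idx.{u}, D.Ok i → Finite i.Λ)
    (haff : ∀ i : Idx.{u}, IsAffineHom (D.P i).hom) (hGa : IsAffineHom G.hom) (i : Idx.{u}) :
    IsAffineHom ((imgOpen X i).ι ≫ X.M.hom) := by
  haveI := haff i
  haveI := universallyClosed_chartTo X hfin haff hGa i
  haveI := surjective_chartTo X i
  refine ⟨fun V hV => ?_⟩
  let f := chartTo X i
  let g := (imgOpen X i).ι ≫ X.M.hom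
  have e : f ⁻¹ᵁ (g ⁻¹ᵁ V) = (D.P i).hom ⁻¹ᵁ V := by
    rw [← Scheme.Hom.comp_preimage]
    congr 1
    simp only [f, g]
    rw [← Category.assoc, chartTo_ι, Over.w (chart X i)]
  haveI : IsAffine ((f ⁻¹ᵁ (g ⁻¹ᵁ V) : (D.P i).left.Opens) : Scheme.{u}) := by rw [e]; exact hV.preimage _
  haveI : Surjective (f ∣_ (g ⁻¹ᵁ V)) :=
    IsZariskiLocalAtTarget.restrict (P := @Surjective) (f := f) inferInstance _
  exact Groth.FlatMor2.Chevalley.isAffine_of_universallyClosed_surjective (f ∣_ (g ⁻¹ᵁ V))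

end Groth.Misc15.MTFin
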